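import Mathlib

/-! Finite groups acting on a local ring, trivially on the residue field and stabilising every
principal ideal: the characters and the kernel of all of them. -/

universe u v

namespace StableIdealLib

open IsLocalRing

variable {B : Type u} [CommRing B] [IsLocalRing B] {Γ : Type v} [Group Γ] [MulSemiringAction Γ B]

lemma res_eq {b u v : B} (hb : b ≠ 0) (h : b * u = b * v) : residue B u = residue B v := by
  by_contra hne
  have hu : IsUnit (u - v) := by
    rw [← residue_ne_zero_iff_isUnit, map_sub]; exact sub_ne_zero.2 hne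
  exact hb (hu.mul_left_eq_zero.1 (by rw [mul_sub, h, sub_self]))

lemma residue_smul (hin : ∀ (γ : Γ) (b : B), γ • b - b ∈ maximalIdeal B) (γ : Γ) (u : B) :
    residue B (γ • u) = residue B u := by
  rw [← sub_eq_zero, ← map_sub, residue_eq_zero_iff]
  exact hin γ u

variable (hin : ∀ (γ : Γ) (b : B), γ • b - b ∈ maximalIdeal B)
  (hst : ∀ (γ : Γ) (b : B), ∃ u : B, γ • b = b * u)

/-- The character of a nonzero element. -/
noncomputable def chi (b : B) (hb : b ≠ 0) : Γ →* (ResidueField B)ˣ :=
  MonoidHom.toHomUnits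
    { toFun := fun γ => residue B (hst γ b).choose
      map_one' := by
        rw [← map_one (residue B)]
        exact res_eq hb ((hst 1 b).choose_spec.symm.trans ((one_smul Γ b).trans (mul_one b).symm))
      map_mul' := fun γ δ => by
        rw [← residue_smul hin γ (hst δ b).choose, ← map_mul]
        refine res_eq hb ((hst (γ * δ) b).choose_spec.symm.trans ?_)
        calc (γ * δ) • b = γ • (b * (hst δ b).choose) := by
              rw [mul_smul]; exact congrArg _ (hst δ b).choose_spec
          _ = (γ • b) * γ • (hst δ b).choose := smul_mul' ..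
          _ = _ := by
              refine (congrArg (· * γ • (hst δ b).choose) (hst γ b).choose_spec).trans ?_
              exact mul_assoc .. }

lemma chi_spec (b : B) (hb : b ≠ 0) (γ : Γ) {u : B} (hu : γ • b = b * u) :
    ((chi hin hst b hb γ : (ResidueField B)ˣ) : ResidueField B) = residue B u :=
  res_eq hb ((hst γ b).choose_spec.symm.trans hu)

/-- The common kernel of the characters. -/
noncomputable def ker : Subgroup Γ := ⨅ x : {b : B // b ≠ 0}, (chi hin hst x.1 x.2).ker

lemma mem_ker_iff (γ : Γ) :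
    γ ∈ ker hin hst ↔ ∀ b : B, ∃ x ∈ maximalIdeal B, γ • b = b + b * x := by
  rw [ker, Subgroup.mem_iInf]
  constructor
  · intro h b
    by_cases hb : b = 0
    · exact ⟨0, zero_mem _, by simp [hb]⟩
    obtain ⟨u, hu⟩ := hst γ b
    refine ⟨u - 1, ?_, by rw [hu]; ring⟩
    have := chi_spec hin hst b hb γ hu
    rw [MonoidHom.mem_ker.1 (h ⟨b, hb⟩), Units.val_one] at this
    rw [← residue_eq_zero_iff, map_sub, ← this, map_one, sub_self]
  · rintro h ⟨b, hb⟩
    obtain ⟨x, hx, hγ⟩ := h b
    refine MonoidHom.mem_ker.2 (Units.ext ?_)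
    rw [Units.val_one, chi_spec hin hst b hb γ (u := 1 + x) (by rw [hγ]; ring), map_add, map_one,
      (residue_eq_zero_iff x).2 hx, add_zero]

include hin hst in
lemma eq_one_of_mem_ker [FaithfulSMul Γ B] {γ : Γ} (hγ : γ ∈ ker hin hst) {n : ℕ} (hn : γ ^ n = 1)
    (hnu : IsUnit (n : B)) : γ = 1 := by
  have hS := (mem_ker_iff hin hst γ).1 hγ
  refine FaithfulSMul.eq_of_smul_eq_smul (α := B) fun b => ?_
  rw [one_smul]
  obtain ⟨x, hx, hb⟩ := hS b
  obtain ⟨x', hx', hxx⟩ := hS x
  have hpow : ∀ i : ℕ, ∃ y ∈ maximalIdeal B, γ ^ i • b = b * (1 + (i : B) * x + x * y) := by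
    intro i
    induction i with
    | zero => exact ⟨0, zero_mem _, by simp⟩
    | succ i ih =>
      obtain ⟨y, hy, hyb⟩ := ih
      refine ⟨(1 + x') * (γ • y) + (i : B) * x' + x * ((1 + x') * (i : B) + (1 + x') * (γ • y)), ?_, ?_⟩
      · have hy' : γ • y ∈ maximalIdeal B := by simpa using add_mem (hin γ y) hy
        exact add_mem (add_mem (Ideal.mul_mem_left _ _ hy') (Ideal.mul_mem_left _ _ hx'))
          (Ideal.mul_mem_right _ _ hx)
      · rw [pow_succ', mul_smul, hyb, smul_mul', smul_add, smul_add, smul_one, smul_mul', smul_mul',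
          hb, hxx, show γ • (i : B) = (i : B) from map_natCast (MulSemiringAction.toRingHom Γ B γ) i]
        push_cast
        ring
  obtain ⟨y, hy, hyb⟩ := hpow n
  rw [hn, one_smul] at hyb
  have hu : IsUnit ((n : B) + y) := by
    rw [← residue_ne_zero_iff_isUnit, map_add, (residue_eq_zero_iff y).2 hy, add_zero,
      residue_ne_zero_iff_isUnit]
    exact hnu
  have : b * x = 0 := hu.mul_left_eq_zero.1 (by linear_combination -hyb)
  rw [hb, this, add_zero]

lemma natCast_isUnit {n : ℕ} (h : (n : ResidueField B) ≠ 0) : IsUnit (n : B) := by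
  rw [← residue_ne_zero_iff_isUnit, map_natCast]; exact h

include hin hst in
lemma eq_one_of_pow_mem_ker {p : ℕ} [Fact p.Prime] [CharP (ResidueField B) p] {γ : Γ}
    (hγ : γ ^ p ∈ ker hin hst) : γ ∈ ker hin hst := by
  rw [ker, Subgroup.mem_iInf] at hγ ⊢
  intro x
  have h := MonoidHom.mem_ker.1 (hγ x)
  refine MonoidHom.mem_ker.2 (Units.ext ?_)
  rw [map_pow] at h
  have h' : (((chi hin hst x.1 x.2 γ : (ResidueField B)ˣ) : ResidueField B) - 1) ^ p = 0 := by
    rw [sub_pow_char, one_pow, ← Units.val_pow_eq_pow_val, h, Units.val_one, sub_self]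
  exact sub_eq_zero.1 ((pow_eq_zero_iff (Fact.out : p.Prime).ne_zero).1 h')

include hin hst in
lemma exists_primitiveRoot {γ : Γ} {n : ℕ} (hn : 0 < n) (hmem : γ ^ n ∈ ker hin hst)
    (hmin : ∀ i : ℕ, 0 < i → i < n → γ ^ i ∉ ker hin hst) :
    ∃ ζ : ResidueField B, IsPrimitiveRoot ζ n := by
  have : NeZero n := ⟨hn.ne'⟩
  obtain ⟨g, hg⟩ := IsCyclic.exists_generator (α := rootsOfUnity n (ResidueField B))
  have hcard : orderOf g ≤ n := by
    rw [orderOf_eq_card_of_forall_mem_zpowers hg]
    exact card_rootsOfUnity (ResidueField B) n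
  have hpow : γ ^ orderOf g ∈ ker hin hst := by
    rw [ker, Subgroup.mem_iInf] at hmem ⊢
    intro x
    have h := MonoidHom.mem_ker.1 (hmem x)
    rw [map_pow] at h
    obtain ⟨i, hi⟩ := Subgroup.mem_zpowers_iff.1
      (hg ⟨chi hin hst x.1 x.2 γ, (mem_rootsOfUnity n _).2 h⟩)
    have h2 : (⟨chi hin hst x.1 x.2 γ, (mem_rootsOfUnity n _).2 h⟩ :
        rootsOfUnity n (ResidueField B)) ^ orderOf g = 1 := by
      rw [← hi, ← zpow_natCast, ← zpow_mul, mul_comm, zpow_mul, zpow_natCast, pow_orderOf_eq_one,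
        one_zpow]
    exact MonoidHom.mem_ker.2 (by rw [map_pow]; exact congrArg Subtype.val h2)
  have heq : orderOf g = n := by
    refine le_antisymm hcard (le_of_not_gt fun hlt => hmin _ (orderOf_pos g) hlt hpow)
  refine ⟨((g : (ResidueField B)ˣ) : ResidueField B), ?_⟩
  rw [IsPrimitiveRoot.coe_units_iff, IsPrimitiveRoot.iff_orderOf, Subgroup.orderOf_coe]
  exact heq

end StableIdealLib
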